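import Mathlib
import Groth.Prelude.Def_HTop2
import Groth.Agent.S11834

/-!
Coquand's proof of the theorem of Traverso and Swan: invertible modules over `R[X]` are free for a
seminormal local ring `R`.
-/

set_option autoImplicit false
set_option linter.all false
set_option backward.isDefEq.respectTransparency.types false

universe u

namespace Groth.Agent.SwanSeminormLib

open Polynomial TensorProduct

theorem isReduced_of_seminormal {R : Type u} [CommRing R] (hR : HTop.IsSeminormalRing R) :
    IsReduced R := by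
  rw [isReduced_iff_pow_one_lt 2 one_lt_two]
  intro x hx
  obtain ⟨a, -, ha⟩ := hR 0 0 (by simp)
  have h1 := ha x ⟨hx.symm, by rw [pow_succ, hx, zero_mul]⟩
  have h2 := ha 0 ⟨by simp, by simp⟩
  rw [h1, h2]

theorem mem_range_of_sq_cube {R K : Type u} [CommRing R] [CommRing K] [IsReduced K] [Algebra R K]
    (hinj : Function.Injective (algebraMap R K)) (hR : HTop.IsSeminormalRing R) (x : K)
    (h2 : x ^ 2 ∈ (algebraMap R K).range) (h3 : x ^ 3 ∈ (algebraMap R K).range) :
    x ∈ (algebraMap R K).range := by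
  obtain ⟨p, hp⟩ := h2
  obtain ⟨q, hq⟩ := h3
  obtain ⟨a, ⟨ha2, ha3⟩, -⟩ := hR p q (hinj (by rw [map_pow, map_pow, hp, hq]; ring))
  refine ⟨a, ?_⟩
  rw [ha2, map_pow] at hp
  rw [ha3, map_pow] at hq
  refine sub_eq_zero.1 (IsReduced.eq_zero _ ⟨3, ?_⟩)
  linear_combination (-3 * x - 3 * algebraMap R K a) * hp + 4 * hq

/-- Kronecker's theorem over reduced rings. -/
theorem isIntegral_coeff_mul {R K : Type u} [CommRing R] [CommRing K] [IsReduced K] [Algebra R K]
    (f g : K[X]) (w : R[X]) (h : f * g = w.map (algebraMap R K)) (i j : ℕ) :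
    IsIntegral R (f.coeff i * g.coeff j) := by
  set c := f.coeff i * g.coeff j
  by_contra hc
  let M : Submonoid K :=
    { carrier := {y | ∃ P : R[X], P.Monic ∧ aeval c P = y}
      one_mem' := ⟨1, monic_one, map_one _⟩
      mul_mem' := by
        rintro _ _ ⟨P, hP, rfl⟩ ⟨Q, hQ, rfl⟩
        exact ⟨P * Q, hP.mul hQ, map_mul _ _ _⟩ }
  have hdisj : Disjoint ((⊥ : Ideal K) : Set K) M := by
    rw [Set.disjoint_left]
    rintro y hy ⟨P, hP, hPy⟩
    exact hc ⟨P, hP, by rw [← aeval_def, hPy]; exact (Submodule.mem_bot K).1 hy⟩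
  obtain ⟨Q, hQ, -, hQM⟩ := Ideal.exists_le_prime_disjoint (⊥ : Ideal K) M hdisj
  let L := FractionRing (K ⧸ Q)
  let ρ : K →+* L := (algebraMap (K ⧸ Q) L).comp (Ideal.Quotient.mk Q)
  have hfg : ∀ n, (f.map ρ * g.map ρ).coeff n ∈ (ρ.comp (algebraMap R K)).range := fun n => by
    rw [← Polynomial.map_mul, h, Polynomial.map_map, coeff_map]
    exact ⟨_, rfl⟩
  obtain ⟨p, hp, hp0⟩ := Groth.Agent.S11834.result L _ _ _ hfg i j
  obtain ⟨q, hq, -, hqm⟩ := Polynomial.lifts_and_degree_eq_and_monic
    (f := (ρ.comp (algebraMap R K)).rangeRestrict) (p := p) (by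
      rw [Polynomial.lifts_iff_coeff_lifts]
      exact fun n => RingHom.rangeRestrict_surjective _ _) hp
  have h1 : ρ (aeval c q) = 0 := by
    rw [aeval_def, Polynomial.hom_eval₂, ← hp0, ← hq, Polynomial.eval₂_map]
    simp only [c, map_mul, coeff_map]
    rfl
  have h2 : aeval c q ∈ Q := by
    rw [← Ideal.Quotient.eq_zero_iff_mem]
    exact (map_eq_zero_iff _ (IsFractionRing.injective (K ⧸ Q) L)).1 h1
  exact Set.disjoint_left.1 hQM h2 ⟨q, hqm, rfl⟩

/-- A factorisation of a rank one idempotent matrix is unique up to normalisation. -/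
theorem factor_unique {L : Type u} [CommRing L] [IsDomain L] {n : ℕ} (i₀ : Fin n)
    (f g f' g' : Fin n → L[X]) (heq : ∀ i j, f i * g j = f' i * g' j)
    (h1 : ∑ i, f i * g i = 1) (hf : (f i₀).coeff 0 = 1) (hf' : (f' i₀).coeff 0 = 1) :
    ∀ i, f i = f' i := by
  have h1' : ∑ i, f' i * g' i = 1 := by rw [← h1]; simp only [heq]
  have hl : ∀ i, f i = (∑ j, f j * g' j) * f' i := fun i => by
    rw [Finset.sum_mul]
    calc f i = f i * ∑ j, f j * g j := by rw [h1, mul_one]
      _ = _ := by
        rw [Finset.mul_sum]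
        refine Finset.sum_congr rfl fun j _ => ?_
        linear_combination (f j) * heq i j
  have hl' : ∀ i, f' i = (∑ j, f' j * g j) * f i := fun i => by
    rw [Finset.sum_mul]
    calc f' i = f' i * ∑ j, f' j * g' j := by rw [h1', mul_one]
      _ = _ := by
        rw [Finset.mul_sum]
        refine Finset.sum_congr rfl fun j _ => ?_
        linear_combination -(f' j) * heq i j
  set s := ∑ j, f j * g' j
  set s' := ∑ j, f' j * g j
  have hne : f i₀ ≠ 0 := fun h => by rw [h, coeff_zero] at hf; exact zero_ne_one hf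
  have hss : s * s' = 1 := by
    refine mul_right_cancel₀ hne ?_
    rw [one_mul, mul_assoc, ← hl', ← hl]
  obtain ⟨c, -, hc⟩ := Polynomial.isUnit_iff.1 (IsUnit.of_mul_eq_one _ hss)
  have hc1 : c = 1 := by
    have h2 := congrArg (fun p => coeff p 0) (hl i₀)
    simp only [hf, ← hc, coeff_C_mul, hf', mul_one] at h2
    exact h2.symm
  intro i
  rw [hl i, ← hc, hc1, map_one, one_mul]

variable {R : Type u} [CommRing R] [IsLocalRing R]

/-- A matrix over `R[X]` that is `f gᵀ` with `Σ f_i g_i = 1` over every residue field is of this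
form over `R[X]`. -/
theorem exists_factor (hR : HTop.IsSeminormalRing R) {n : ℕ} (E : Fin n → Fin n → R[X])
    (hk : ∀ p : PrimeSpectrum R, ∃ f g : Fin n → p.asIdeal.ResidueField[X],
      (∀ i j, (E i j).map (algebraMap R p.asIdeal.ResidueField) = f i * g j) ∧ ∑ i, f i * g i = 1) :
    ∃ f g : Fin n → R[X], (∀ i j, E i j = f i * g j) ∧ ∑ i, f i * g i = 1 := by
  classical
  haveI := isReduced_of_seminormal hR
  let K := ∀ p : PrimeSpectrum R, p.asIdeal.ResidueField
  have hinj : Function.Injective (algebraMap R K) := by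
    rw [injective_iff_map_eq_zero]
    intro x hx
    refine IsReduced.eq_zero x ?_
    rw [nilpotent_iff_mem_prime]
    intro P hP
    have h1 := congrFun hx ⟨P, hP⟩
    simp only [Pi.algebraMap_apply, Pi.zero_apply] at h1
    exact Ideal.algebraMap_residueField_eq_zero.1 h1
  have hinjX := Polynomial.map_injective _ hinj
  have hext : ∀ a b : K[X],
      (∀ p, a.map (Pi.evalRingHom _ p) = b.map (Pi.evalRingHom _ p)) → a = b := fun a b h => by
    ext m p
    have := congrArg (fun q => coeff q m) (h p)
    simp only [coeff_map] at this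
    exact this
  have hev : ∀ p : PrimeSpectrum R, (Pi.evalRingHom (fun q : PrimeSpectrum R => q.asIdeal.ResidueField) p).comp
      (algebraMap R K) = algebraMap R p.asIdeal.ResidueField := fun p => rfl
  have htr : ∑ i, E i i = 1 := hinjX (hext _ _ fun p => by
    obtain ⟨f, g, hfg, h1⟩ := hk p
    simp only [Polynomial.map_sum, Polynomial.map_one, Polynomial.map_map, hev, hfg, h1])
  obtain ⟨i₀, hi₀⟩ : ∃ i₀, IsUnit ((E i₀ i₀).coeff 0) := by
    by_contra hne
    push Not at hne
    have h1 := congrArg (fun q => coeff q 0) htr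
    simp only [finsetSum_coeff, coeff_one_zero] at h1
    refine (IsLocalRing.maximalIdeal.isMaximal R).ne_top ((Ideal.eq_top_iff_one _).2 ?_)
    rw [← h1]
    exact sum_mem fun i _ => hne i
  let D := Finset.univ.sup fun ij : Fin n × Fin n => (E ij.1 ij.2).natDegree
  have hk' : ∀ p : PrimeSpectrum R, ∃ f g : Fin n → p.asIdeal.ResidueField[X],
      (∀ i j, (E i j).map (algebraMap R p.asIdeal.ResidueField) = f i * g j) ∧
      ∑ i, f i * g i = 1 ∧ (f i₀).coeff 0 = 1 ∧ (∀ i, (f i).natDegree ≤ D) ∧
      ∀ j, (g j).natDegree ≤ D := by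
    intro p
    obtain ⟨f, g, hfg, h1⟩ := hk p
    have hc : (f i₀).coeff 0 * (g i₀).coeff 0 ≠ 0 := by
      rw [← mul_coeff_zero, ← hfg, coeff_map]
      exact (hi₀.map _).ne_zero
    set c := (f i₀).coeff 0
    have hc0 : c ≠ 0 := left_ne_zero_of_mul hc
    have hprod : ∀ i j, (E i j).map (algebraMap R p.asIdeal.ResidueField) =
        (C c⁻¹ * f i) * (C c * g j) := fun i j => by
      rw [hfg, mul_mul_mul_comm, ← map_mul, inv_mul_cancel₀ hc0, map_one, one_mul]
    have hdeg : ∀ i j, ((E i j).map (algebraMap R p.asIdeal.ResidueField)).natDegree ≤ D :=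
      fun i j => natDegree_map_le.trans
        (Finset.le_sup (f := fun ij : Fin n × Fin n => (E ij.1 ij.2).natDegree) (Finset.mem_univ (i, j)))
    have hf0 : C c⁻¹ * f i₀ ≠ 0 := mul_ne_zero (C_ne_zero.2 (inv_ne_zero hc0))
      fun h => hc (by rw [show c = (f i₀).coeff 0 from rfl, h, coeff_zero, zero_mul])
    have hg0 : C c * g i₀ ≠ 0 := mul_ne_zero (C_ne_zero.2 hc0)
      fun h => hc (by rw [h, coeff_zero, mul_zero])
    refine ⟨fun i => C c⁻¹ * f i, fun j => C c * g j, hprod, ?_, ?_, fun i => ?_, fun j => ?_⟩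
    · rw [← h1]
      exact Finset.sum_congr rfl fun i _ => by rw [← hprod, hfg]
    · rw [coeff_C_mul]; exact inv_mul_cancel₀ hc0
    · show (C c⁻¹ * f i).natDegree ≤ D
      by_cases h : C c⁻¹ * f i = 0
      · simp [h]
      · have := hdeg i i₀
        rw [hprod, natDegree_mul h hg0] at this
        omega
    · show (C c * g j).natDegree ≤ D
      by_cases h : C c * g j = 0
      · simp [h]
      · have := hdeg i₀ j
        rw [hprod, natDegree_mul hf0 h] at this
        omega
  choose fp gp hfg h1 hf0 hfd hgd using hk'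
  let F : Fin n → K[X] := fun i =>
    ∑ m ∈ Finset.range (D + 1), C (fun p => (fp p i).coeff m : K) * X ^ m
  let G : Fin n → K[X] := fun j =>
    ∑ m ∈ Finset.range (D + 1), C (fun p => (gp p j).coeff m : K) * X ^ m
  have hF : ∀ p i, (F i).map (Pi.evalRingHom _ p) = fp p i := fun p i => by
    conv_rhs => rw [as_sum_range_C_mul_X_pow' (n := D + 1) (fp p i) (Nat.lt_succ_of_le (hfd p i))]
    simp [F, Polynomial.map_sum]
    rfl
  have hG : ∀ p j, (G j).map (Pi.evalRingHom _ p) = gp p j := fun p j => by
    conv_rhs => rw [as_sum_range_C_mul_X_pow' (n := D + 1) (gp p j) (Nat.lt_succ_of_le (hgd p j))]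
    simp [G, Polynomial.map_sum]
    rfl
  have hFG : ∀ i j, F i * G j = (E i j).map (algebraMap R K) := fun i j => hext _ _ fun p => by
    rw [Polynomial.map_mul, hF, hG, Polynomial.map_map, hev, hfg]
  have hFG1 : ∑ i, F i * G i = 1 := by
    simp only [hFG, ← Polynomial.map_sum, htr, Polynomial.map_one]
  have hF0 : (F i₀).coeff 0 = 1 := funext fun p => by
    have := congrArg (fun q => coeff q 0) (hF p i₀)
    simp only [coeff_map, hf0] at this
    exact this
  have hG0 : (G i₀).coeff 0 = algebraMap R K ((E i₀ i₀).coeff 0) := by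
    rw [← coeff_map, ← hFG, mul_coeff_zero, hF0, one_mul]
  have hGint : ∀ j m, IsIntegral R ((G j).coeff m) := fun j m => by
    have := isIntegral_coeff_mul (F i₀) (G j) _ (hFG i₀ j) 0 m
    rwa [hF0, one_mul] at this
  have hFint : ∀ i m, IsIntegral R ((F i).coeff m) := fun i m => by
    have := isIntegral_coeff_mul (F i) (G i₀) _ (hFG i i₀) m 0
    rw [hG0] at this
    have h2 := this.mul (isIntegral_algebraMap (x := (↑hi₀.unit⁻¹ : R)) (A := K))
    rwa [mul_assoc, ← map_mul, hi₀.mul_val_inv, map_one, mul_one] at h2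
  -- the finite algebra generated by the coefficients
  let gen : Finset K := (Finset.univ ×ˢ Finset.range (D + 1)).image (fun x => (F x.1).coeff x.2) ∪
    (Finset.univ ×ˢ Finset.range (D + 1)).image (fun x => (G x.1).coeff x.2)
  let B : Subalgebra R K := Algebra.adjoin R (gen : Set K)
  have hgen : ∀ c ∈ gen, IsIntegral R c := fun c hc => by
    rcases Finset.mem_union.1 hc with h | h <;> obtain ⟨x, -, rfl⟩ := Finset.mem_image.1 h
    · exact hFint _ _
    · exact hGint _ _
  have hBfg : (Subalgebra.toSubmodule B).FG :=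
    fg_adjoin_of_finite gen.finite_toSet hgen
  let C0 : Ideal B :=
    { carrier := {x | ∀ b : B, ((x * b : B) : K) ∈ (algebraMap R K).range}
      zero_mem' := fun b => by simp
      add_mem' := fun {x y} hx hy b => by
        rw [add_mul, Subalgebra.coe_add]
        exact add_mem (hx b) (hy b)
      smul_mem' := fun c x hx b => by
        rw [smul_eq_mul, mul_comm c, mul_assoc]
        exact hx _ }
  have hC0rad : ∀ (k : ℕ) (x : B), x ^ (2 ^ k) ∈ C0 → x ∈ C0 := by
    intro k
    induction k with
    | zero => intro x hx; simpa using hx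
    | succ k ih =>
      intro x hx
      rw [pow_succ, pow_mul] at hx
      refine ih x fun b => mem_range_of_sq_cube hinj hR _ ?_ ?_
      · rw [← Subalgebra.coe_pow, mul_pow]
        exact hx _
      · rw [← Subalgebra.coe_pow, mul_pow, pow_succ _ 2, mul_assoc]
        exact hx _
  let 𝔠 : Ideal R := C0.comap (algebraMap R B)
  suffices h𝔠 : (1 : R) ∈ 𝔠 by
    have hB : ∀ c ∈ gen, c ∈ (algebraMap R K).range := fun c hc => by
      have := h𝔠 ⟨c, Algebra.subset_adjoin hc⟩
      simpa using this
    have hFl : ∀ i, ∃ f : R[X], f.map (algebraMap R K) = F i := fun i => by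
      refine (Polynomial.lifts_iff_coeff_lifts _).2 (fun m => ?_)
      rcases Nat.lt_or_ge m (D + 1) with h | h
      · exact hB _ (Finset.mem_union_left _ (Finset.mem_image.2 ⟨(i, m), by simp [h], rfl⟩))
      · refine ⟨0, ?_⟩
        rw [map_zero]
        simp [F, finsetSum_coeff, coeff_C_mul, coeff_X_pow]
        exact fun hm => absurd hm (by omega)
    have hGl : ∀ j, ∃ g : R[X], g.map (algebraMap R K) = G j := fun j => by
      refine (Polynomial.lifts_iff_coeff_lifts _).2 (fun m => ?_)
      rcases Nat.lt_or_ge m (D + 1) with h | h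
      · exact hB _ (Finset.mem_union_right _ (Finset.mem_image.2 ⟨(j, m), by simp [h], rfl⟩))
      · refine ⟨0, ?_⟩
        rw [map_zero]
        simp [G, finsetSum_coeff, coeff_C_mul, coeff_X_pow]
        exact fun hm => absurd hm (by omega)
    choose f hf using hFl
    choose g hg using hGl
    refine ⟨f, g, fun i j => hinjX ?_, hinjX ?_⟩
    · simp only [Polynomial.map_mul, hf, hg, hFG]
    · simp only [Polynomial.map_sum, Polynomial.map_mul, hf, hg, hFG1, Polynomial.map_one]
  by_contra hne
  obtain ⟨P, hP⟩ := Ideal.nonempty_minimalPrimes (fun h => hne (h ▸ trivial) : 𝔠 ≠ ⊤)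
  haveI hPp : P.IsPrime := hP.1.1
  have hloc : ∀ c ∈ gen, ∃ t ∉ P, algebraMap R K t * c ∈ (algebraMap R K).range := by
    intro c hc
    let k := P.ResidueField
    obtain ⟨a, ha⟩ : ∃ a : k, a = c ⟨P, hPp⟩ := ⟨_, rfl⟩
    obtain ⟨r, u, hu, hru⟩ := IsFractionRing.div_surjective (R ⧸ P) a
    obtain ⟨r, rfl⟩ := Ideal.Quotient.mk_surjective r
    obtain ⟨u, rfl⟩ := Ideal.Quotient.mk_surjective u
    have huP : u ∉ P := fun h => nonZeroDivisors.ne_zero hu (Ideal.Quotient.eq_zero_iff_mem.2 h)
    let y : B := algebraMap R B u * ⟨c, Algebra.subset_adjoin hc⟩ - algebraMap R B r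
    have hy : ∀ Q : Ideal B, Q.IsPrime → Q.comap (algebraMap R B) = P → y ∈ Q := by
      intro Q hQ hQP
      haveI : Q.IsPrime := hQ
      let L := Q.ResidueField
      let ρ : B →+* L := algebraMap B L
      let ι : k →+* L := IsFractionRing.lift (A := R ⧸ P)
        (g := Ideal.Quotient.lift P (ρ.comp (algebraMap R B)) (fun x hx => by
          have : algebraMap R B x ∈ Q := by rw [← Ideal.mem_comap, hQP]; exact hx
          exact Ideal.algebraMap_residueField_eq_zero.2 this))
        (by
          rw [injective_iff_map_eq_zero]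
          intro x hx
          obtain ⟨x, rfl⟩ := Ideal.Quotient.mk_surjective x
          rw [Ideal.Quotient.eq_zero_iff_mem, ← hQP, Ideal.mem_comap]
          exact Ideal.algebraMap_residueField_eq_zero.1 hx)
      have hι : ∀ x : R, ι (algebraMap R k x) = ρ (algebraMap R B x) := fun x => by
        rw [IsScalarTower.algebraMap_apply R (R ⧸ P) k]
        exact IsFractionRing.lift_algebraMap _ _
      have hinB : ∀ (q : K[X]), (∀ m, q.coeff m ∈ B) → ∃ q' : B[X], q'.map B.val.toRingHom = q :=
        fun q h => (Polynomial.lifts_iff_coeff_lifts _).2 fun m => ⟨⟨_, h m⟩, rfl⟩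
      have hmemF : ∀ i m, (F i).coeff m ∈ B := fun i m => by
        rcases Nat.lt_or_ge m (D + 1) with h | h
        · exact Algebra.subset_adjoin
            (Finset.mem_union_left _ (Finset.mem_image.2 ⟨(i, m), by simp [h], rfl⟩))
        · have h0 : (F i).coeff m = 0 := by
            simp [F, finsetSum_coeff, coeff_C_mul, coeff_X_pow]
            exact fun hm => absurd hm (by omega)
          rw [h0]; exact zero_mem _
      have hmemG : ∀ i m, (G i).coeff m ∈ B := fun i m => by
        rcases Nat.lt_or_ge m (D + 1) with h | h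
        · exact Algebra.subset_adjoin
            (Finset.mem_union_right _ (Finset.mem_image.2 ⟨(i, m), by simp [h], rfl⟩))
        · have h0 : (G i).coeff m = 0 := by
            simp [G, finsetSum_coeff, coeff_C_mul, coeff_X_pow]
            exact fun hm => absurd hm (by omega)
          rw [h0]; exact zero_mem _
      choose Fb hFb using fun i => hinB _ (hmemF i)
      choose Gb hGb using fun i => hinB _ (hmemG i)
      have hBX := Polynomial.map_injective (B.val.toRingHom) Subtype.val_injective
      have hFGb : ∀ i j, Fb i * Gb j = (E i j).map (algebraMap R B) := fun i j => hBX (by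
        rw [Polynomial.map_mul, hFb, hGb, hFG, Polynomial.map_map]
        rfl)
      have hFb1 : ∑ i, Fb i * Gb i = 1 := hBX (by
        simp only [Polynomial.map_sum, Polynomial.map_mul, hFb, hGb, hFG1, Polynomial.map_one])
      have hu1 : ∀ i, (Fb i).map ρ = (fp ⟨P, hPp⟩ i).map ι := factor_unique i₀ _
        (fun j => (Gb j).map ρ) _ (fun j => (gp ⟨P, hPp⟩ j).map ι)
        (fun i j => by
          rw [← Polynomial.map_mul, ← Polynomial.map_mul, hFGb, ← hfg, Polynomial.map_map,
            Polynomial.map_map]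
          congr 1
          exact RingHom.ext fun x => (hι x).symm)
        (by simp only [← Polynomial.map_mul, ← Polynomial.map_sum, hFb1, Polynomial.map_one])
        (by
          have : (Fb i₀).coeff 0 = 1 := Subtype.ext (by
            show B.val.toRingHom ((Fb i₀).coeff 0) = _
            rw [← coeff_map, hFb, hF0]; rfl)
          rw [coeff_map, this, map_one])
        (by rw [coeff_map, hf0, map_one])
      have hu2 : ∀ j, (Gb j).map ρ = (gp ⟨P, hPp⟩ j).map ι := fun j => by
        have hne : (Fb i₀).map ρ ≠ 0 := fun h => by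
          have h2 := congrArg (fun q => coeff q 0) ((hu1 i₀).symm.trans h)
          simp [coeff_map, hf0] at h2
        refine mul_left_cancel₀ hne ?_
        conv_rhs => rw [hu1 i₀]
        rw [← Polynomial.map_mul, ← Polynomial.map_mul, hFGb, ← hfg, Polynomial.map_map,
          Polynomial.map_map]
        congr 1
        exact RingHom.ext fun x => (hι x).symm
      have hca : ρ ⟨c, Algebra.subset_adjoin hc⟩ = ι a := by
        rcases Finset.mem_union.1 hc with h | h
        · obtain ⟨x, -, hxc⟩ := Finset.mem_image.1 h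
          have hcB : (⟨c, Algebra.subset_adjoin hc⟩ : B) = (Fb x.1).coeff x.2 := Subtype.ext (by
            show c = B.val.toRingHom _
            rw [← coeff_map, hFb, hxc])
          have hac : a = (fp ⟨P, hPp⟩ x.1).coeff x.2 := by
            rw [ha, ← hxc, ← hF, coeff_map]; rfl
          rw [hcB, hac, ← coeff_map, ← coeff_map, hu1]
        · obtain ⟨x, -, hxc⟩ := Finset.mem_image.1 h
          have hcB : (⟨c, Algebra.subset_adjoin hc⟩ : B) = (Gb x.1).coeff x.2 := Subtype.ext (by
            show c = B.val.toRingHom _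
            rw [← coeff_map, hGb, hxc])
          have hac : a = (gp ⟨P, hPp⟩ x.1).coeff x.2 := by
            rw [ha, ← hxc, ← hG, coeff_map]; rfl
          rw [hcB, hac, ← coeff_map, ← coeff_map, hu2]
      have hzero : ρ y = 0 := by
        have hua : algebraMap R k u * a = algebraMap R k r := by
          rw [← hru, IsScalarTower.algebraMap_apply R (R ⧸ P) k u,
            IsScalarTower.algebraMap_apply R (R ⧸ P) k r, Ideal.Quotient.algebraMap_eq]
          rw [mul_comm, div_mul_cancel₀]
          exact IsFractionRing.to_map_ne_zero_of_mem_nonZeroDivisors hu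
        simp only [y, map_sub, map_mul, hca, ← hι]
        rw [← map_mul ι, hua, sub_self]
      exact Ideal.algebraMap_residueField_eq_zero.1 hzero
    let M : Submonoid B :=
      { carrier := {z | ∃ (s : R) (m : ℕ), s ∉ P ∧ algebraMap R B s * y ^ m = z}
        one_mem' := ⟨1, 0, fun h => hPp.ne_top ((Ideal.eq_top_iff_one _).2 h), by simp⟩
        mul_mem' := by
          rintro _ _ ⟨s, m, hs, rfl⟩ ⟨s', m', hs', rfl⟩
          exact ⟨s * s', m + m', hPp.mul_notMem hs hs', by rw [map_mul, pow_add]; ring⟩ }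
    have hmeet : ¬ Disjoint (C0 : Set B) M := by
      intro hd
      obtain ⟨Q, hQ, hCQ, hQM⟩ := Ideal.exists_le_prime_disjoint C0 M hd
      have hQP : Q.comap (algebraMap R B) ≤ P := fun s hs => by
        by_contra hsP
        exact Set.disjoint_left.1 hQM hs ⟨s, 0, hsP, by simp⟩
      have heq : Q.comap (algebraMap R B) = P :=
        le_antisymm hQP (hP.2 ⟨hQ.comap _, Ideal.comap_mono hCQ⟩ hQP)
      exact Set.disjoint_left.1 hQM (hy Q hQ heq) ⟨1, 1, fun h => hPp.ne_top ((Ideal.eq_top_iff_one _).2 h), by simp⟩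
    rw [Set.not_disjoint_iff] at hmeet
    obtain ⟨_, hz, s, m, hs, rfl⟩ := hmeet
    have h2 : algebraMap R B s * y ∈ C0 := by
      refine hC0rad (m + 1) _ ?_
      have hle : m + 1 ≤ 2 ^ (m + 1) := (Nat.lt_two_pow_self).le
      obtain ⟨d, hd⟩ := Nat.exists_eq_add_of_le hle
      rw [hd, show (algebraMap R B s * y) ^ (m + 1 + d) =
        (algebraMap R B s ^ (m + d) * y ^ (d + 1)) * (algebraMap R B s * y ^ m) by ring]
      exact C0.mul_mem_left _ hz
    have h3 := h2 1
    rw [mul_one] at h3
    refine ⟨s * u, hPp.mul_notMem hs huP, ?_⟩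
    have h4 : algebraMap R K (s * u) * c = ((algebraMap R B s * y : B) : K) + algebraMap R K (s * r) := by
      simp only [y, Subalgebra.coe_mul, Subalgebra.coe_sub, Subalgebra.coe_algebraMap, map_mul]
      ring
    rw [h4]
    exact add_mem h3 ⟨_, rfl⟩
  choose t htP ht using hloc
  obtain ⟨S, hS⟩ := hBfg
  have hstep : ∀ b ∈ B, ∃ t ∉ P, algebraMap R K t * b ∈ (algebraMap R K).range := by
    intro b hb
    induction hb using Algebra.adjoin_induction with
    | mem x hx => exact ⟨t x hx, htP x hx, ht x hx⟩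
    | algebraMap r => exact ⟨1, fun h => hPp.ne_top ((Ideal.eq_top_iff_one _).2 h), by simp⟩
    | add x y _ _ hx hy =>
      obtain ⟨s, hs, hx⟩ := hx
      obtain ⟨s', hs', hy⟩ := hy
      refine ⟨s * s', hPp.mul_notMem hs hs', ?_⟩
      rw [map_mul, mul_add, mul_right_comm, mul_assoc (algebraMap R K s) _ y]
      exact add_mem (Subring.mul_mem _ hx ⟨_, rfl⟩) (Subring.mul_mem _ ⟨_, rfl⟩ hy)
    | mul x y _ _ hx hy =>
      obtain ⟨s, hs, hx⟩ := hx
      obtain ⟨s', hs', hy⟩ := hy
      refine ⟨s * s', hPp.mul_notMem hs hs', ?_⟩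
      rw [map_mul, mul_mul_mul_comm]
      exact Subring.mul_mem _ hx hy
  choose! T hTP hT using hstep
  have hsub : ∀ x ∈ S, x ∈ B := fun x hx => by
    have := Submodule.subset_span (R := R) (s := (S : Set K)) hx
    rw [hS] at this
    exact this
  have hTc : ∏ x ∈ S, T x ∈ 𝔠 := by
    intro b
    have hb : (b : K) ∈ Submodule.span R (S : Set K) := by rw [hS]; exact b.2
    rw [Subalgebra.coe_mul, Subalgebra.coe_algebraMap]
    refine Submodule.span_induction ?_ ?_ ?_ ?_ hb
    · intro x hx
      rw [← Finset.mul_prod_erase S T hx, map_mul, mul_right_comm]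
      exact Subring.mul_mem _ (hT x (hsub x hx)) ⟨_, rfl⟩
    · simp
    · intro x z _ _ hx hz
      rw [mul_add]; exact add_mem hx hz
    · intro r x _ hx
      rw [Algebra.smul_def, mul_left_comm]
      exact Subring.mul_mem _ ⟨_, rfl⟩ hx
  have := hP.1.2 hTc
  obtain ⟨x, hx, hxP⟩ := (hPp.prod_mem_iff).1 this
  exact hTP x (hsub x hx) hxP

/-- Traverso–Swan: over a seminormal local ring, invertible `R[X]`-modules are free. -/
theorem free_of_invertible (hR : HTop.IsSeminormalRing R) (M : Type u) [AddCommGroup M]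
    [Module R[X] M] [Module.Invertible R[X] M] : Module.Free R[X] M := by
  classical
  obtain ⟨n, π, hπ⟩ := Module.Finite.exists_fin' R[X] M
  obtain ⟨σ, hσ⟩ := Module.projective_lifting_property π LinearMap.id hπ
  let x : Fin n → M := fun i => π (Pi.single i 1)
  let φ : Fin n → (M →ₗ[R[X]] R[X]) := fun i => LinearMap.proj i ∘ₗ σ
  have hx : ∀ z, ∑ i, φ i z • x i = z := fun z => by
    simp only [x, φ, ← map_smul, ← map_sum, LinearMap.comp_apply, LinearMap.proj_apply]
    rw [← pi_eq_sum_univ' (σ z)]
    exact LinearMap.congr_fun hσ z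
  obtain ⟨f, g, hfg, h1⟩ := exists_factor hR (fun i j => φ i (x j)) (fun p => by
    let k := p.asIdeal.ResidueField
    let π₀ : R[X] →+* k[X] := Polynomial.mapRingHom (algebraMap R k)
    letI : Algebra R[X] k[X] := π₀.toAlgebra
    obtain ⟨e⟩ := Module.Invertible.free_iff_linearEquiv.1
      (inferInstance : Module.Free k[X] (k[X] ⊗[R[X]] M))
    let ψ : Fin n → (k[X] ⊗[R[X]] M →ₗ[k[X]] k[X]) := fun i =>
      ((Algebra.linearMap R[X] k[X]).comp (φ i)).liftBaseChange k[X]
    have hψ : ∀ z, ∑ i, ψ i z • ((1 : k[X]) ⊗ₜ[R[X]] x i) = z := fun z => by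
      induction z using TensorProduct.induction_on with
      | zero => simp
      | tmul c m =>
        conv_rhs => rw [← hx m, tmul_sum]
        refine Finset.sum_congr rfl fun i _ => ?_
        simp only [ψ, LinearMap.liftBaseChange_tmul, LinearMap.comp_apply, Algebra.linearMap_apply,
          smul_tmul', smul_eq_mul, mul_one, ← smul_tmul]
        rw [Algebra.smul_def, mul_comm]
      | add a b ha hb => simp only [map_add, add_smul, Finset.sum_add_distrib, ha, hb]
    refine ⟨fun i => ψ i (e.symm 1), fun j => e (1 ⊗ₜ x j), fun i j => ?_, ?_⟩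
    · have h2 : ψ i (1 ⊗ₜ x j) = (φ i (x j)).map (algebraMap R k) := by
        simp only [ψ, LinearMap.liftBaseChange_tmul, one_smul, LinearMap.comp_apply]
        rfl
      have h3 : (1 : k[X]) ⊗ₜ[R[X]] x j = e (1 ⊗ₜ x j) • e.symm 1 := by
        rw [← map_smul, smul_eq_mul, mul_one, e.symm_apply_apply]
      show _ = ψ i (e.symm 1) * e (1 ⊗ₜ x j)
      rw [← h2]
      conv_lhs => rw [h3]
      rw [map_smul, smul_eq_mul, mul_comm]
    · have := congrArg e (hψ (e.symm 1))
      simp only [map_sum, map_smul, e.apply_symm_apply, smul_eq_mul] at this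
      exact this)
  let Ψ : M →ₗ[R[X]] R[X] := ∑ i, g i • φ i
  let v : M := ∑ i, f i • x i
  have hkey : ∀ k z, φ k z = f k * Ψ z := fun k z => by
    conv_lhs => rw [← hx z]
    simp only [Ψ, map_sum, map_smul, LinearMap.coe_sum, Finset.sum_apply, LinearMap.smul_apply,
      smul_eq_mul, hfg, Finset.mul_sum]
    exact Finset.sum_congr rfl fun i _ => by ring
  have hv : ∀ k, φ k v = f k := fun k => by
    simp only [v, map_sum, map_smul, smul_eq_mul, hfg]
    calc ∑ i, f i * (f k * g i) = f k * ∑ i, f i * g i := by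
          rw [Finset.mul_sum]; exact Finset.sum_congr rfl fun i _ => by ring
      _ = f k := by rw [h1, mul_one]
  refine Module.Free.of_equiv (LinearEquiv.ofLinear (LinearMap.toSpanSingleton R[X] M v) Ψ ?_ ?_)
  · refine LinearMap.ext fun z => ?_
    show Ψ z • v = z
    conv_rhs => rw [← hx z]
    simp only [v, Finset.smul_sum, smul_smul, hkey, mul_comm (Ψ z)]
  · refine LinearMap.ext_ring ?_
    show Ψ ((1 : R[X]) • v) = 1
    rw [one_smul]
    simp only [Ψ, LinearMap.coe_sum, Finset.sum_apply, LinearMap.smul_apply, smul_eq_mul, hv]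
    rw [← h1]
    exact Finset.sum_congr rfl fun i _ => mul_comm _ _

end Groth.Agent.SwanSeminormLib
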